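import Cfsg.Agent.H784.EX.AltRow
import Cfsg.Agent.S1066
import Cfsg.Agent.S2227

/-!
# S5745, rows `T = A_11, A_12` in `²E₆(2)` (helper784)

* `card_te6`, `c5_te6` : `|²E₆(2)|`, `|x^G| = |G| / 100800` for `|x| = 5` (S2227);
* `te6_alt11` : no `EPS H N e` with `N ≅ A_11`;
* `te6_alt12` : no `EPS H N e` with `N ≅ A_12` if `|x^G| ≥ 84707000000` for `|x| = 3`.
-/

set_option autoImplicit false
set_option linter.unusedSectionVars false

namespace Cfsg.Agent.H784.EX

open Cfsg.Agent.H209.EPX Cfsg.Agent.H742.EX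

section

variable {K : Type*} [Field K] [Fintype K]

theorem card_te6 (hK : Fintype.card K = 4) : Nat.card (Cfsg.Lie.twistedE6 K 2) = 76532479683774853939200 := by
  have h := Cfsg.Agent.S1066.result (K := K) (q := 2) Nat.prime_two.isPrimePow (by rw [hK]; norm_num)
  norm_num at h
  omega

theorem c5_te6 (hK : Fintype.card K = 4) (x : ↥(Cfsg.Lie.twistedE6 K 2)) (hx : orderOf x = 5) :
    759250790513639424 ≤ cG x := by
  have hfin : Finite ↥(Cfsg.Lie.twistedE6 K 2) := Nat.finite_of_card_ne_zero (by rw [card_te6 hK]; norm_num)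
  obtain ⟨e⟩ := (Cfsg.Agent.S2227.result hK).2 x hx
  have h1 := card_G x
  have h2 : Nat.card {g : ↥(Cfsg.Lie.twistedE6 K 2) // g⁻¹ * x * g = x} = 100800 := by
    have h3 : Nat.card {g : ↥(Cfsg.Lie.twistedE6 K 2) // g⁻¹ * x * g = x} =
        Nat.card ↥(Subgroup.centralizer ({x} : Set ↥(Cfsg.Lie.twistedE6 K 2))) := by
      refine Nat.card_congr (Equiv.subtypeEquivRight fun g => ?_)
      rw [Subgroup.mem_centralizer_singleton_iff, mul_assoc, inv_mul_eq_iff_eq_mul]
      exact eq_comm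
    rw [h3, Nat.card_congr e.toEquiv, Nat.card_prod, nat_card_alternatingGroup]
    simp [Nat.factorial]
  rw [h2, card_te6 hK] at h1
  omega

variable {H N : Subgroup ↥(Cfsg.Lie.twistedE6 K 2)} {T : Type} [Group T] {e : N ≃* (Fin 1 → T)}

theorem te6_alt11 (hK : Fintype.card K = 4) (h : EPS H N e) (eT : T ≃* alternatingGroup (Fin 11)) : False := by
  have hfin : Finite ↥(Cfsg.Lie.twistedE6 K 2) := Nat.finite_of_card_ne_zero (by rw [card_te6 hK]; norm_num)
  refine row_eleven h eT ?_ (c5 := 759250790513639424) (by norm_num) (c5_te6 hK)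
  rw [card_te6 hK]
  norm_num [Nat.factorial]

theorem te6_alt12 (hK : Fintype.card K = 4)
    (hc3 : ∀ x : ↥(Cfsg.Lie.twistedE6 K 2), orderOf x = 3 → 83800000000 ≤ cG x)
    (h : EPS H N e) (eT : T ≃* alternatingGroup (Fin 12)) : False := by
  have hfin : Finite ↥(Cfsg.Lie.twistedE6 K 2) := Nat.finite_of_card_ne_zero (by rw [card_te6 hK]; norm_num)
  refine row_twelve h eT ?_ (c3 := 83800000000) (c5 := 759250790513639424) (by norm_num) (by norm_num) hc3 (c5_te6 hK) ?_
  · rw [card_te6 hK]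
    norm_num [Nat.factorial]
  · norm_num

end

end Cfsg.Agent.H784.EX
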