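import Cfsg.Agent.H784.EX.AltFive
import Cfsg.Agent.H784.EX.TE6Alt

/-!
# S5745, rows `T = A_10, A_11, A_12` in `²E₆(2)` (helper784), no class sizes: only S2227 (elements of order 5 are conjugate)

`te6_alt` : no `EPS H N e` with `N ≅ A_n`, `10 ≤ n ≤ 12`.
-/

set_option autoImplicit false
set_option linter.unusedSectionVars false

namespace Cfsg.Agent.H784.EX

open Cfsg.Agent.H209.EPX Cfsg.Agent.H742.EX

variable {K : Type*} [Field K] [Fintype K] {H N : Subgroup ↥(Cfsg.Lie.twistedE6 K 2)} {T : Type} [Group T]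
  {e : N ≃* (Fin 1 → T)}

theorem te6_alt (hK : Fintype.card K = 4) (h : EPS H N e) {n : ℕ} (hn : 10 ≤ n) (hn' : n ≤ 12)
    (eT : T ≃* alternatingGroup (Fin n)) : False := by
  have hfin : Finite ↥(Cfsg.Lie.twistedE6 K 2) := Nat.finite_of_card_ne_zero (by rw [card_te6 hK]; norm_num)
  exact alt_dead h hn hn' eT (fun x _ y _ hx hy => (Cfsg.Agent.S2227.result hK).1 x y hx hy)

end Cfsg.Agent.H784.EX
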