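import Cfsg.Agent.H784.EX.AltFr
import Cfsg.Agent.H784.EX.AltMax
import Mathlib.GroupTheory.Perm.Centralizer
import Cfsg.Agent.S0713

/-!
# S5745, rows `T = A_10, A_11, A_12` (helper784): no class sizes

* `fuse` : `EPS H N e`, `g ∉ H`, `x ∈ H`, `g x g⁻¹ ∈ H`: `M = H ⊓ cj g⁻¹ H` is a maximal subgroup of `H` containing `x` and
  `g M g⁻¹ ≤ H` (used inside);
* `three_comm` : `L` maximal in `A_n ≤ G ≤ S_n`, `n ≥ 10`, not containing `A_n`, contains a 5-cycle `y`: an element of order
  3 of `L` commutes with `y`;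
* `alt_dead` : `EPS H N e`, `k = 1`, `T ≅ A_n`, `10 ≤ n ≤ 12`: not all elements of order 5 of `H` are conjugate in `G`.
-/

set_option autoImplicit false
set_option linter.unusedSectionVars false

namespace Cfsg.Agent.H784.EX

open Equiv Equiv.Perm Subgroup MulAction Cfsg.Agent.H839.EP Cfsg.Agent.H168.EP Cfsg.Agent.H742.EX
  Cfsg.Agent.H284 Cfsg.Agent.H209.EPX

section perm

variable {n : ℕ} {G L : Subgroup (Perm (Fin n))}

theorem swap_class {r : Setoid (Fin n)} {a b : Fin n} (hab : r a b) (x : Fin n) : r (swap a b x) x := by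
  by_cases h1 : x = a
  · subst h1
    rw [swap_apply_left]
    exact r.symm hab
  by_cases h2 : x = b
  · subst h2
    rw [swap_apply_right]
    exact hab
  rw [swap_apply_of_ne_of_ne h1 h2]

/-- three letters fixed by `y` in one class -/
theorem three_of_class (hG : alternatingGroup (Fin n) ≤ G) {r : Setoid (Fin n)} (hL : L = G ⊓ stabS r)
    {y : Perm (Fin n)} {a b c : Fin n} (hab : a ≠ b) (hac : a ≠ c) (hbc : b ≠ c) (ha : y a = a) (hb : y b = b)
    (hc : y c = c) (h1 : r a b) (h2 : r a c) : ∃ w ∈ L, orderOf w = 3 ∧ w * y = y * w := by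
  have h3 : IsThreeCycle (swap a b * swap a c) := isThreeCycle_swap_mul_swap_same hab hac hbc
  refine ⟨swap a b * swap a c, mem_of_class hG hL h3.mem_alternatingGroup (fun x => ?_), h3.orderOf, ?_⟩
  · exact r.trans (swap_class h1 _) (swap_class h2 x)
  · have e1 : y * swap a b = swap a b * y := by rw [mul_swap_eq_swap_mul, ha, hb]
    have e2 : y * swap a c = swap a c * y := by rw [mul_swap_eq_swap_mul, ha, hc]
    rw [mul_assoc, ← e2, ← mul_assoc, ← e1, mul_assoc]

theorem three_comm (hn : 10 ≤ n) (hG : alternatingGroup (Fin n) ≤ G) (hL : MaxNot G L) {y : Perm (Fin n)}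
    (hy : y.IsCycle) (hy5 : y.support.card = 5) (hyL : y ∈ L) : ∃ w ∈ L, orderOf w = 3 ∧ w * y = y * w := by
  classical
  by_cases hprim : IsPreprimitive L (Fin n)
  · exfalso
    exact hL.nalt (Cfsg.Agent.S0713.result L hprim (p := 5) (by norm_num) (by simp; omega) (by simp; omega) hy hy5 hyL)
  by_cases ht : IsPretransitive L (Fin n)
  · obtain ⟨r, hr⟩ := Cfsg.Agent.H168.EP.MaxNot.eq_stabS (by omega) hG hL hprim
    have hyr : ∀ x z, r (y x) (y z) ↔ r x z := by
      have h1 : y ∈ G ⊓ stabS r := by rw [← hr]; exact hyL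
      exact h1.2
    have hLr : ∀ g ∈ L, ∀ x z, r (g x) (g z) ↔ r x z := by
      intro g hg
      rw [hr] at hg
      exact hg.2
    -- the relation is neither trivial nor universal
    have hne : ∃ x z, r x z ∧ x ≠ z := by
      by_contra hcon
      push Not at hcon
      apply hL.nalt
      rw [hr]
      refine le_inf hG (fun g _ x z => ⟨fun h => ?_, fun h => ?_⟩)
      · rw [g.injective (hcon _ _ h)]
      · rw [hcon _ _ h]
    have hnt : ∃ x z, ¬ r x z := by
      by_contra hcon
      push Not at hcon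
      apply hL.nalt
      rw [hr]
      exact le_inf hG (fun g _ x z => ⟨fun _ => hcon _ _, fun _ => hcon _ _⟩)
    obtain ⟨s, hs⟩ : ∃ s, s ∈ y.support := Finset.card_pos.1 (by rw [hy5]; norm_num)
    have hs' : y s ≠ s := mem_support.1 hs
    have hord : orderOf y = 5 := by rw [hy.orderOf, hy5]
    have hpow : ∀ (j : ℕ) (x z : Fin n), r ((y ^ j) x) ((y ^ j) z) ↔ r x z := by
      intro j x z
      exact hLr _ (L.pow_mem hyL j) x z
    -- `s` is related to `y s`
    have hsy : r s (y s) := by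
      obtain ⟨x, z, hxz, hxz'⟩ := hne
      obtain ⟨⟨g, hg⟩, hgx⟩ := ht.exists_smul_eq x s
      have hgx' : g x = s := hgx
      have h1 : r s (g z) := by
        rw [← hgx']
        exact (hLr g hg x z).2 hxz
      have h2 : g z ≠ s := by
        rw [← hgx']
        exact fun h => hxz' (g.injective h).symm
      by_cases h3 : y (g z) = g z
      · have h4 := (hyr s (g z)).2 h1
        rw [h3] at h4
        exact r.trans h1 (r.symm h4)
      · obtain ⟨j, hj⟩ := hy.exists_pow_eq hs' h3
        -- `y ^ j s = g z`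
        have hstep : ∀ k : ℕ, r s ((y ^ (j * k)) s) := by
          intro k
          induction k with
          | zero => rw [mul_zero, pow_zero]; exact r.refl s
          | succ k ih =>
            have h5 : r ((y ^ (j * k)) s) ((y ^ (j * k)) ((y ^ j) s)) := by
              rw [hpow]
              rw [hj]
              exact h1
            rw [mul_add, mul_one, pow_add, Perm.mul_apply]
            exact r.trans ih h5
        have hj5 : ¬ 5 ∣ j := by
          intro h5
          have h6 : y ^ j = 1 := orderOf_dvd_iff_pow_eq_one.1 (by rw [hord]; exact h5)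
          rw [h6] at hj
          exact h2 hj.symm
        obtain ⟨k, hk⟩ : ∃ k, j * k % 5 = 1 := by
          have h7 : j % 5 = 1 ∨ j % 5 = 2 ∨ j % 5 = 3 ∨ j % 5 = 4 := by omega
          rcases h7 with h | h | h | h
          · exact ⟨1, by omega⟩
          · exact ⟨3, by omega⟩
          · exact ⟨2, by omega⟩
          · exact ⟨4, by omega⟩
        have h8 := hstep k
        rw [← pow_mod_orderOf, hord, hk, pow_one] at h8
        exact h8
    -- all moved letters are related to `s`
    have hall : ∀ x, y x ≠ x → r s x := by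
      intro x hx
      obtain ⟨j, hj⟩ := hy.exists_pow_eq hs' hx
      have hstep : ∀ k : ℕ, r s ((y ^ k) s) := by
        intro k
        induction k with
        | zero => rw [pow_zero]; exact r.refl s
        | succ k ih =>
          rw [pow_succ, Perm.mul_apply]
          exact r.trans ih ((hpow k s (y s)).2 hsy)
      rw [← hj]
      exact hstep j
    obtain ⟨u, hu⟩ : ∃ u, ¬ r s u := by
      by_contra hcon
      push Not at hcon
      obtain ⟨x, z, hxz⟩ := hnt
      exact hxz (r.trans (r.symm (hcon x)) (hcon z))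
    obtain ⟨⟨g, hg⟩, hgs⟩ := ht.exists_smul_eq s u
    have hgs' : g s = u := hgs
    have h1 : r (g s) (g (y s)) := (hLr g hg _ _).2 hsy
    have hsyy : r s (y (y s)) := r.trans hsy ((hyr _ _).2 hsy)
    have h2 : r (g s) (g (y (y s))) := (hLr g hg _ _).2 hsyy
    have hfix : ∀ x, r (g s) x → y x = x := by
      intro x hx
      by_contra hcon
      apply hu
      rw [← hgs']
      exact r.trans (hall x hcon) (r.symm hx)
    have hd1 : s ≠ y s := fun h => hs' h.symm
    have hd2 : y s ≠ y (y s) := fun h => hs' (y.injective h).symm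
    have hd3 : s ≠ y (y s) := by
      intro h
      have h3 : (y ^ 2) s = s := by rw [pow_two]; exact h.symm
      have h4 : (y ^ 4) s = s := by
        rw [show (4 : ℕ) = 2 + 2 from rfl, pow_add, Perm.mul_apply, h3, h3]
      have h5 : (y ^ 5) s = s := by
        rw [← hord, pow_orderOf_eq_one]
        rfl
      rw [show (5 : ℕ) = 1 + 4 from rfl, pow_add, Perm.mul_apply, h4, pow_one] at h5
      exact hs' h5
    exact three_of_class hG hr (fun h => hd1 (g.injective h)) (fun h => hd3 (g.injective h))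
      (fun h => hd2 (g.injective h)) (hfix _ (r.refl _)) (hfix _ h1) (hfix _ h2) h1 h2
  · -- intransitive
    obtain ⟨a, b, hab⟩ : ∃ a b : Fin n, ∀ g ∈ L, g a ≠ b := by
      by_contra hcon
      push Not at hcon
      apply ht
      constructor
      intro x y
      obtain ⟨g, hg, hgxy⟩ := hcon x y
      exact ⟨⟨g, hg⟩, hgxy⟩
    let O : Finset (Fin n) := Finset.univ.filter (fun x => ∃ g ∈ L, g a = x)
    have hO : ∀ x, x ∈ O ↔ ∃ g ∈ L, g a = x := fun x => by simp [O]
    have hinv : ∀ g ∈ L, ∀ x, g x ∈ O ↔ x ∈ O := by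
      intro g hg x
      rw [hO, hO]
      constructor
      · rintro ⟨k, hk, h1⟩
        refine ⟨g⁻¹ * k, L.mul_mem (L.inv_mem hg) hk, ?_⟩
        rw [Perm.mul_apply, h1]
        exact g.symm_apply_apply x
      · rintro ⟨k, hk, rfl⟩
        exact ⟨g * k, L.mul_mem hg hk, rfl⟩
    have haO : a ∈ O := (hO a).2 ⟨1, L.one_mem, rfl⟩
    have hbO : b ∉ O := by
      rw [hO]
      rintro ⟨g, hg, h1⟩
      exact hab g hg h1
    let r : Setoid (Fin n) := ⟨fun x y => (x ∈ O ↔ y ∈ O), fun _ => Iff.rfl, fun h => h.symm, fun h h' => h.trans h'⟩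
    have hr : ∀ x y, r x y ↔ (x ∈ O ↔ y ∈ O) := fun _ _ => Iff.rfl
    have hLr : L ≤ stabS r := le_stabS (fun g hg x y hxy => by
      rw [hr] at hxy ⊢
      rw [hinv g hg, hinv g hg]
      exact hxy)
    -- three fixed letters in one class
    have hF : (y.support)ᶜ.card = n - 5 := by
      rw [Finset.card_compl, Fintype.card_fin, hy5]
    have hsplit : ((y.support)ᶜ ∩ O).card + ((y.support)ᶜ \ O).card = (y.support)ᶜ.card := by
      rw [add_comm]
      exact Finset.card_sdiff_add_card_inter _ _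
    obtain ⟨s, hs3, hsf, hs⟩ : ∃ s : Finset (Fin n), 2 < s.card ∧ (∀ x ∈ s, y x = x) ∧ ∀ x ∈ s, ∀ z ∈ s, r x z := by
      have hfix : ∀ x ∈ (y.support)ᶜ, y x = x := by
        intro x hx
        rw [Finset.mem_compl] at hx
        exact notMem_support.1 hx
      rcases Nat.lt_or_ge 2 ((y.support)ᶜ ∩ O).card with h2 | h2
      · refine ⟨_, h2, fun x hx => hfix x (Finset.mem_inter.1 hx).1, fun x hx z hz => ?_⟩
        exact (hr x z).2 ⟨fun _ => (Finset.mem_inter.1 hz).2, fun _ => (Finset.mem_inter.1 hx).2⟩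
      · refine ⟨(y.support)ᶜ \ O, by omega, fun x hx => hfix x (Finset.mem_sdiff.1 hx).1, fun x hx z hz => ?_⟩
        exact (hr x z).2 ⟨fun h => absurd h (Finset.mem_sdiff.1 hx).2, fun h => absurd h (Finset.mem_sdiff.1 hz).2⟩
    obtain ⟨u, v, w, hu, hv, hw, huv, huw, hvw⟩ := Finset.two_lt_card_iff.1 hs3
    have hna : ¬ alternatingGroup (Fin n) ≤ stabS r := by
      intro hle
      rcases eq_bot_or_top_of_alt (by omega) hle with h1 | h1
      · exact huv (h1 u v (hs u hu v hv))
      · exact hbO ((h1 a b).1 haO)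
    exact three_of_class hG (hL.eq_inf hG hLr hna) huv huw hvw (hsf u hu) (hsf v hv) (hsf w hw) (hs u hu v hv)
      (hs u hu w hw)

theorem cycle_of_finset {t : Finset (Fin n)} (ht : t.card = 5) : ∃ c : Perm (Fin n), c.IsCycle ∧ c.support = t := by
  have hl : t.toList.length = 5 := by rw [Finset.length_toList, ht]
  have hnd : t.toList.Nodup := t.nodup_toList
  refine ⟨t.toList.formPerm, List.isCycle_formPerm hnd (by omega), ?_⟩
  rw [List.support_formPerm_of_nodup _ hnd (by
    intro x hx
    rw [hx] at hl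
    simp at hl)]
  exact Finset.toList_toFinset t

theorem exists_two_cycles (hn : 10 ≤ n) : ∃ c d : Perm (Fin n), c.IsCycle ∧ d.IsCycle ∧ c.support.card = 5 ∧
    d.support.card = 5 ∧ c.Disjoint d := by
  classical
  obtain ⟨t, -, ht⟩ := Finset.exists_subset_card_eq (s := (Finset.univ : Finset (Fin n))) (n := 5) (by simp; omega)
  obtain ⟨t', ht's, ht'⟩ := Finset.exists_subset_card_eq (s := tᶜ) (n := 5) (by
    rw [Finset.card_compl, Fintype.card_fin, ht]
    omega)
  obtain ⟨c, hc, hct⟩ := cycle_of_finset ht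
  obtain ⟨d, hd, hdt⟩ := cycle_of_finset ht'
  refine ⟨c, d, hc, hd, by rw [hct, ht], by rw [hdt, ht'], ?_⟩
  rw [disjoint_iff_disjoint_support, hct, hdt, Finset.disjoint_left]
  intro x hx hx'
  exact (Finset.mem_compl.1 (ht's hx')) hx

theorem not_three (hn : 10 ≤ n) (hn' : n ≤ 12) {c d z : Perm (Fin n)} (hc : c.IsCycle) (hd : d.IsCycle)
    (hc5 : c.support.card = 5) (hd5 : d.support.card = 5) (hcd : c.Disjoint d) (hz : orderOf z = 3)
    (hzc : z * (c * d) = (c * d) * z) : False := by
  classical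
  have hct : (c * d).cycleType = {5, 5} := by
    rw [hcd.cycleType_mul, hc.cycleType, hd.cycleType, hc5, hd5]
    rfl
  have hcard := nat_card_centralizer (c * d)
  rw [hct] at hcard
  have h1 : z ∈ Subgroup.centralizer {c * d} := by
    rw [mem_centralizer_singleton_iff]
    exact hzc
  have h2 : 3 ∣ Nat.card (Subgroup.centralizer {c * d}) := by
    have h3 : orderOf (⟨z, h1⟩ : Subgroup.centralizer {c * d}) = 3 := by rw [Subgroup.orderOf_mk, hz]
    rw [← h3]
    exact orderOf_dvd_natCard _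
  rw [hcard, Fintype.card_fin] at h2
  have h4 : ({5, 5} : Multiset ℕ).sum = 10 := rfl
  have h5 : ({5, 5} : Multiset ℕ).prod = 25 := rfl
  have h6 : (∏ k ∈ ({5, 5} : Multiset ℕ).toFinset, (({5, 5} : Multiset ℕ).count k).factorial) = 2 := by decide
  rw [h4, h5, h6] at h2
  have h7 : n - 10 ≤ 2 := by omega
  interval_cases (n - 10) <;> revert h2 <;> decide

end perm

section row

variable {G : Type*} [Group G] {H N : Subgroup G} {T : Type} [Group T] {e : N ≃* (Fin 1 → T)}

/-- **`A_10`, `A_11`, `A_12`**: not all elements of order 5 of `H` are conjugate in `G` -/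
theorem alt_dead [Finite G] (h : EPS H N e) {n : ℕ} (hn : 10 ≤ n) (hn' : n ≤ 12) (eT : T ≃* alternatingGroup (Fin n))
    (hconj : ∀ x ∈ H, ∀ y ∈ H, orderOf x = 5 → orderOf y = 5 → IsConj x y) : False := by
  obtain ⟨ρ, hρ, halt, hmax⟩ := exists_frame h (by omega) eT
  obtain ⟨c, d, hc, hd, hc5, hd5, hcd⟩ := exists_two_cycles hn
  have hoc : orderOf c = 5 := by rw [hc.orderOf, hc5]
  have hod : orderOf d = 5 := by rw [hd.orderOf, hd5]
  have hocd : orderOf (c * d) = 5 := by rw [hcd.orderOf, hoc, hod]; rfl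
  obtain ⟨x, hx⟩ := halt (mem_alternatingGroup.2 (odd_sign (x := c) (by rw [hoc]; decide)))
  obtain ⟨y, hy⟩ := halt (mem_alternatingGroup.2 (odd_sign (x := c * d) (by rw [hocd]; decide)))
  have hox : orderOf (x : G) = 5 := by rw [Subgroup.orderOf_coe, ← orderOf_injective ρ hρ, hx, hoc]
  have hoy : orderOf (y : G) = 5 := by rw [Subgroup.orderOf_coe, ← orderOf_injective ρ hρ, hy, hocd]
  obtain ⟨g, hg⟩ := isConj_iff.1 (hconj x x.2 y y.2 hox hoy)
  have hgH : g ∉ H := by
    intro hgH
    have h1 : (⟨g, hgH⟩ : H) * x * (⟨g, hgH⟩ : H)⁻¹ = y := Subtype.ext hg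
    have h2 := congrArg ρ h1
    rw [map_mul, map_mul, map_inv, hx, hy] at h2
    have h3 := congrArg Perm.cycleType h2
    rw [cycleType_conj, hcd.cycleType_mul, hc.cycleType, hd.cycleType] at h3
    have h4 := congrArg Multiset.card h3
    simp at h4
  have hgH' : g⁻¹ ∉ H := fun h1 => hgH (by simpa using H.inv_mem h1)
  have hm := hmax g⁻¹ hgH'
  have hxM : (x : G) ∈ cj g⁻¹ H := by
    rw [mem_cj, inv_inv, hg]
    exact y.2
  have hcL : c ∈ ((H ⊓ cj g⁻¹ H).subgroupOf H).map ρ := ⟨x, mem_subgroupOf.2 ⟨x.2, hxM⟩, hx⟩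
  obtain ⟨w, ⟨w', hw', rfl⟩, hw3, hwc⟩ := three_comm hn halt hm hc hc5 hcL
  have hw'' : g * (w' : G) * g⁻¹ ∈ H := by
    have h1 := mem_cj.1 (mem_subgroupOf.1 hw').2
    rwa [inv_inv] at h1
  have hcomm : (w' : G) * x = x * w' := by
    have h1 : w' * x = x * w' := hρ (by rw [map_mul, map_mul, hx]; exact hwc)
    exact congrArg Subtype.val h1
  refine not_three hn hn' hc hd hc5 hd5 hcd (z := ρ ⟨g * (w' : G) * g⁻¹, hw''⟩) ?_ ?_
  · rw [orderOf_injective ρ hρ, Subgroup.orderOf_mk]
    have h1 : orderOf (g * (w' : G) * g⁻¹) = orderOf (w' : G) := (MulAut.conj g).orderOf_eq (w' : G)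
    rw [h1, Subgroup.orderOf_coe, ← orderOf_injective ρ hρ, hw3]
  · rw [← hy, ← map_mul, ← map_mul]
    congr 1
    apply Subtype.ext
    show g * (w' : G) * g⁻¹ * (y : G) = (y : G) * (g * (w' : G) * g⁻¹)
    rw [← hg]
    calc g * (w' : G) * g⁻¹ * (g * (x : G) * g⁻¹) = g * ((w' : G) * x) * g⁻¹ := by group
      _ = g * ((x : G) * w') * g⁻¹ := by rw [hcomm]
      _ = _ := by group

end row

end Cfsg.Agent.H784.EX
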